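import Mathlib.AlgebraicGeometry.Properties
import Mathlib.AlgebraicGeometry.FunctionField
import Mathlib.RingTheory.IntegralClosure.IntegrallyClosed
import Mathlib.RingTheory.Localization.FractionRing

/-!
Sections of a scheme with normal stalks: `Γ(Y, U)` is integrally closed as soon as it is a domain
whose nonzero elements have nonzero germs everywhere on `U`.
-/

universe u

open CategoryTheory AlgebraicGeometry TopologicalSpace Opposite

namespace Groth.Agent.NormalSec

theorem exists_mul_eq_of_isIntegral_div {A O : Type u} [CommRing A] [IsDomain A] [CommRing O]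
    [IsDomain O] [IsIntegrallyClosed O] {K : Type u} [Field K] [Algebra A K]
    [IsFractionRing A K] (K' : Type u) [Field K'] [Algebra O K'] [IsFractionRing O K'] (g : A →+* O) (hg : Function.Injective g) (a b : A)
    (hb : b ≠ 0)
    (hx : IsIntegral A (algebraMap A K a / algebraMap A K b)) :
    ∃ c : O, g b * c = g a := by
  have hinj : Function.Injective ((algebraMap O K').comp g) :=
    (IsFractionRing.injective O K').comp hg
  let L : K →+* K' := IsFractionRing.lift hinj
  have hL : L.comp (algebraMap A K) = (algebraMap O K').comp g :=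
    RingHom.ext fun z => IsFractionRing.lift_algebraMap hinj z
  obtain ⟨p, hp, hp0⟩ := hx
  have hint : IsIntegral O (L (algebraMap _ _ a / algebraMap _ _ b)) := by
    refine ⟨p.map g, hp.map g, ?_⟩
    rw [Polynomial.eval₂_map, ← hL, ← Polynomial.hom_eval₂, hp0, map_zero]
  obtain ⟨c, hc⟩ := IsIntegrallyClosed.isIntegral_iff.mp hint
  refine ⟨c, IsFractionRing.injective O K' ?_⟩
  have ea : L (algebraMap _ _ a) = algebraMap _ _ (g a) := DFunLike.congr_fun hL a
  have eb : L (algebraMap _ _ b) = algebraMap _ _ (g b) := DFunLike.congr_fun hL b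
  have hb1 : algebraMap O K' (g b) ≠ 0 := fun h =>
    hb (hinj (h.trans (map_zero _).symm))
  rw [map_mul, hc, map_div₀, ea, eb]
  exact mul_div_cancel₀ _ hb1

theorem isIntegrallyClosed_sections {Y : Scheme.{u}} (U : Y.Opens) [IsDomain Γ(Y, U)]
    (hdom : ∀ y ∈ U, IsDomain (Y.presheaf.stalk y))
    (hnorm : ∀ y ∈ U, IsIntegrallyClosed (Y.presheaf.stalk y))
    (hb : ∀ b : Γ(Y, U), b ≠ 0 → ∀ y (hy : y ∈ U), Y.presheaf.germ U y hy b ≠ 0) :
    IsIntegrallyClosed Γ(Y, U) := by
  rw [isIntegrallyClosed_iff (FractionRing Γ(Y, U))]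
  intro x hx
  obtain ⟨a, b, hb0, rfl⟩ := IsFractionRing.div_surjective (A := Γ(Y, U)) x
  have hb' : b ≠ 0 := nonZeroDivisors.ne_zero hb0
  have hloc : ∀ y (hy : y ∈ U), ∃ c : Y.presheaf.stalk y,
      Y.presheaf.germ U y hy b * c = Y.presheaf.germ U y hy a := by
    intro y hy
    have := hdom y hy
    have := hnorm y hy
    exact exists_mul_eq_of_isIntegral_div (FractionRing (Y.presheaf.stalk y)) (Y.presheaf.germ U y hy).hom
      ((injective_iff_map_eq_zero _).mpr fun z hz => by_contra fun hz0 => hb z hz0 y hy hz)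
      a b hb' hx
  have hspread : ∀ y : U, ∃ (W : Y.Opens) (_ : y.1 ∈ W) (hW : W ≤ U) (c : Γ(Y, W)),
      Y.presheaf.map (homOfLE hW).op b * c = Y.presheaf.map (homOfLE hW).op a := by
    rintro ⟨y, hy⟩
    obtain ⟨c, hc⟩ := hloc y hy
    obtain ⟨V, hV, c, rfl⟩ := Y.presheaf.exists_germ_eq c
    have e : Y.presheaf.germ (U ⊓ V) y ⟨hy, hV⟩
          (Y.presheaf.map (homOfLE inf_le_left).op b * Y.presheaf.map (homOfLE inf_le_right).op c) =
        Y.presheaf.germ (U ⊓ V) y ⟨hy, hV⟩ (Y.presheaf.map (homOfLE inf_le_left).op a) := by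
      rw [map_mul]
      erw [TopCat.Presheaf.germ_res_apply, TopCat.Presheaf.germ_res_apply,
        TopCat.Presheaf.germ_res_apply]
      exact hc
    obtain ⟨W, hyW, i₁, i₂, hW⟩ := Y.presheaf.germ_eq y _ _ _ _ e
    refine ⟨W, hyW, le_trans i₁.le inf_le_left,
      Y.presheaf.map i₁.op (Y.presheaf.map (homOfLE inf_le_right).op c), ?_⟩
    rw [Subsingleton.elim i₂ i₁, map_mul] at hW
    simp only [← CommRingCat.comp_apply, ← Functor.map_comp, ← op_comp] at hW ⊢
    exact hW
  choose W hyW hWU c hc using hspread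
  have hcompat : TopCat.Presheaf.IsCompatible Y.presheaf W c := by
    intro i j
    refine TopCat.Presheaf.section_ext Y.sheaf _ _ _ fun z hz => ?_
    have := hdom z (hWU i hz.1)
    erw [TopCat.Presheaf.germ_res_apply, TopCat.Presheaf.germ_res_apply]
    show Y.presheaf.germ (W i) z hz.1 (c i) = Y.presheaf.germ (W j) z hz.2 (c j)
    refine mul_left_cancel₀ (hb b hb' z (hWU i hz.1)) ?_
    have ei := congrArg (Y.presheaf.germ (W i) z hz.1) (hc i)
    have ej := congrArg (Y.presheaf.germ (W j) z hz.2) (hc j)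
    rw [map_mul, TopCat.Presheaf.germ_res_apply, TopCat.Presheaf.germ_res_apply] at ei ej
    exact ei.trans ej.symm
  obtain ⟨s, hs, -⟩ := TopCat.Sheaf.existsUnique_gluing' Y.sheaf W U (fun i => homOfLE (hWU i))
    (fun y hy => Opens.mem_iSup.mpr ⟨⟨y, hy⟩, hyW _⟩) c hcompat
  let s' : Γ(Y, U) := s
  refine ⟨s', ?_⟩
  let s : Γ(Y, U) := s
  have hbs : b * s = a := by
    refine TopCat.Presheaf.section_ext Y.sheaf _ _ _ fun y hy => ?_
    have hh := congrArg (Y.presheaf.germ (W ⟨y, hy⟩) y (hyW ⟨y, hy⟩)) (hc ⟨y, hy⟩)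
    have hh' := hh
    rw [← hs ⟨y, hy⟩] at hh
    change Y.presheaf.germ (W ⟨y, hy⟩) y (hyW ⟨y, hy⟩) (Y.presheaf.map (homOfLE (hWU ⟨y, hy⟩)).op b *
      Y.presheaf.map (homOfLE (hWU ⟨y, hy⟩)).op s) = _ at hh
    rw [map_mul] at hh
    erw [TopCat.Presheaf.germ_res_apply, TopCat.Presheaf.germ_res_apply,
      TopCat.Presheaf.germ_res_apply] at hh
    show Y.presheaf.germ U y hy (b * s) = Y.presheaf.germ U y hy a
    rw [map_mul]
    exact hh
  rw [← hbs, map_mul]
  exact (mul_div_cancel_left₀ _ (by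
    exact fun h => hb' (IsFractionRing.injective Γ(Y, U) (FractionRing Γ(Y, U))
      (h.trans (map_zero _).symm)))).symm

end Groth.Agent.NormalSec
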